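import Mathlib
import Cfsg.Agent.H1.Cores
import Cfsg.Agent.GS.Basic

set_option autoImplicit false
open Cfsg Subgroup

namespace Cfsg.Agent.NilCov

variable {G : Type*} [Group G]

/-- A nilpotent minimal cover. -/
def NMC (𝓐 : Finset (Subgroup G)) : Prop :=
  ((∀ A ∈ 𝓐, A ≠ ⊤) ∧ (∀ g : G, ∃ A ∈ 𝓐, g ∈ A)) ∧ (∀ 𝓑 : Finset (Subgroup G), (∀ A ∈ 𝓑, A ≠ ⊤) ∧ (∀ g : G, ∃ A ∈ 𝓑, g ∈ A) → 𝓐.card ≤ 𝓑.card) ∧ (∀ A ∈ 𝓐, Group.IsNilpotent ↥A)

theorem NMC.eq {𝓐 : Finset (Subgroup G)} (h : NMC 𝓐) {A B M : Subgroup G} (hA : A ∈ 𝓐) (hB : B ∈ 𝓐)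
    (hM : M ≠ ⊤) (hAM : A ≤ M) (hBM : B ≤ M) : A = B := by
  classical
  by_contra hne
  have h1 := h.2.1 (insert M ((𝓐.erase A).erase B)) ⟨?_, ?_⟩
  · have h2 := Finset.card_insert_le M ((𝓐.erase A).erase B)
    have hB' : B ∈ 𝓐.erase A := Finset.mem_erase.2 ⟨Ne.symm hne, hB⟩
    have h3 := Finset.card_erase_add_one hB'
    have h4 := Finset.card_erase_add_one hA
    omega
  · intro C hC
    rcases Finset.mem_insert.1 hC with rfl | hC
    · exact hM
    · exact h.1.1 C (Finset.mem_of_mem_erase (Finset.mem_of_mem_erase hC))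
  · intro g
    obtain ⟨C, hC, hg⟩ := h.1.2 g
    by_cases h1 : C = A
    · exact ⟨M, Finset.mem_insert_self _ _, hAM (h1 ▸ hg)⟩
    by_cases h2 : C = B
    · exact ⟨M, Finset.mem_insert_self _ _, hBM (h2 ▸ hg)⟩
    exact ⟨C, Finset.mem_insert_of_mem (Finset.mem_erase.2 ⟨h2, Finset.mem_erase.2 ⟨h1, hC⟩⟩), hg⟩

theorem syl_comm [Finite G] {p : ℕ} [Fact p.Prime] (P : Sylow p G) (hab : IsMulCommutative (P : Subgroup G))
    (Q : Subgroup G) (hQ : IsPGroup p Q) {x y : G} (hx : x ∈ Q) (hy : y ∈ Q) : x * y = y * x := by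
  obtain ⟨R, hR⟩ := hQ.exists_le_sylow
  obtain ⟨g, rfl⟩ := MulAction.exists_smul_eq G P R
  have h1 := hR hx
  have h2 := hR hy
  rw [Sylow.coe_subgroup_smul, mem_pointwise_smul_iff_inv_smul_mem] at h1 h2
  have h3 := congrArg Subtype.val (hab.is_comm.comm (⟨_, h1⟩ : (P : Subgroup G)) ⟨_, h2⟩)
  simp only [coe_mul, ← smul_mul'] at h3
  exact MulAction.injective _ h3

theorem mem_syl [Finite G] {p : ℕ} [Fact p.Prime] (Q : Sylow p G) [(Q : Subgroup G).Normal] {x : G}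
    (hx : ∃ k, orderOf x = p ^ k) : x ∈ (Q : Subgroup G) := by
  obtain ⟨k, hk⟩ := hx
  have h1 : IsPGroup p (zpowers x) := IsPGroup.of_card (by rw [Nat.card_zpowers, hk])
  obtain ⟨R, hR⟩ := h1.exists_le_sylow
  haveI := Sylow.unique_of_normal Q inferInstance
  rw [Subsingleton.elim Q R]
  exact hR (mem_zpowers x)

theorem cent [Finite G] {p : ℕ} [hp : Fact p.Prime] (P : Sylow p G) (hab : IsMulCommutative (P : Subgroup G))
    {A : Subgroup G} (hA : Group.IsNilpotent A) {x : G} (hx : x ∈ A) (hxp : ∃ k, orderOf x = p ^ k) :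
    A ≤ centralizer ({x} : Set G) := by
  intro g hg
  rw [mem_centralizer_singleton_iff]
  obtain ⟨a, ha, b, hb, rfl, hap, hbp⟩ := GS.exists_p_parts (p := p) g
  have haA : a ∈ A := (zpowers_le.2 hg) ha
  have hbA : b ∈ A := (zpowers_le.2 hg) hb
  have h1 : b * x = x * b := by
    obtain ⟨k, hk⟩ := hxp
    exact H1.commute_of_isNilpotent_of_coprime hA hbA hx (hk ▸ hbp.pow_right k)
  have h2 : a * x = x * a := by
    obtain ⟨Q⟩ := (inferInstance : Nonempty (Sylow p A))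
    haveI : (Q : Subgroup A).Normal := Sylow.normal_of_normalizerCondition (Group.normalizerCondition_of_isNilpotent) Q
    have h3 := mem_syl Q (x := ⟨a, haA⟩) (by simpa using hap)
    have h4 := mem_syl Q (x := ⟨x, hx⟩) (by simpa using hxp)
    exact syl_comm P hab _ (Q.2.map A.subtype) ⟨_, h3, rfl⟩ ⟨_, h4, rfl⟩
  rw [mul_assoc, h1, ← mul_assoc, h2, mul_assoc]

theorem NMC.uniq [Finite G] (hZ : center G = ⊥) {𝓐 : Finset (Subgroup G)} (h : NMC 𝓐) {p : ℕ} [hp : Fact p.Prime]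
    (P : Sylow p G) (hab : IsMulCommutative (P : Subgroup G)) {A B : Subgroup G} (hA : A ∈ 𝓐) (hB : B ∈ 𝓐)
    {x : G} (hx1 : x ≠ 1) (hxp : ∃ k, orderOf x = p ^ k) (hxA : x ∈ A) (hxB : x ∈ B) : A = B := by
  refine h.eq hA hB (M := centralizer ({x} : Set G)) ?_ (cent P hab (h.2.2 A hA) hxA hxp) (cent P hab (h.2.2 B hB) hxB hxp)
  intro ht
  apply hx1
  rw [← mem_bot, ← hZ, mem_center_iff]
  intro g
  exact mem_centralizer_singleton_iff.1 (ht ▸ mem_top g)

theorem pel [Finite G] {p : ℕ} [hp : Fact p.Prime] {Q : Subgroup G} (hQ : IsPGroup p Q) {x : G} (hx : x ∈ Q) :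
    ∃ k, orderOf x = p ^ k := by
  obtain ⟨k, hk⟩ := IsPGroup.iff_orderOf.1 hQ ⟨x, hx⟩
  exact ⟨k, by simpa using hk⟩

theorem NMC.inside [Finite G] (hZ : center G = ⊥) {𝓐 : Finset (Subgroup G)} (h : NMC 𝓐) {p : ℕ} [hp : Fact p.Prime]
    (P : Sylow p G) (hab : IsMulCommutative (P : Subgroup G))
    (hP : IsCyclic (P : Subgroup G) ∨ ¬ IsElementaryAbelian p (P : Subgroup G)) : ∃ A ∈ 𝓐, (P : Subgroup G) ≤ A := by
  rcases hP with hP | hP
  · obtain ⟨u, hu⟩ := IsCyclic.exists_generator (α := (P : Subgroup G))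
    obtain ⟨A, hA, huA⟩ := h.1.2 u
    refine ⟨A, hA, fun y hy => ?_⟩
    obtain ⟨i, hi⟩ := hu ⟨y, hy⟩
    have : y = (u : G) ^ i := by simpa using (congrArg Subtype.val hi).symm
    exact this ▸ A.zpow_mem huA i
  · have : ∃ u ∈ (P : Subgroup G), u ^ p ≠ 1 := by
      by_contra hc
      push Not at hc
      exact hP ⟨hab, hc⟩
    obtain ⟨u, hu, hup⟩ := this
    obtain ⟨A, hA, huA⟩ := h.1.2 u
    refine ⟨A, hA, ?_⟩
    have hc : ∀ a ∈ (P : Subgroup G), ∀ b ∈ (P : Subgroup G), Commute a b := fun a ha b hb =>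
      syl_comm P hab _ P.2 ha hb
    have h1 : ∀ w ∈ (P : Subgroup G), w ^ p = 1 → w ∈ A := by
      intro w hw hwp
      obtain ⟨B, hB, huB⟩ := h.1.2 (u * w)
      have h2 : u ^ p ∈ B := by
        have := B.pow_mem huB p
        rwa [(hc u hu w hw).mul_pow, hwp, mul_one] at this
      have h3 := h.uniq hZ P hab hA hB hup (pel P.2 (pow_mem hu p)) (pow_mem huA p) h2
      rw [← h3] at huB
      exact (A.mul_mem_cancel_left huA).1 huB
    obtain ⟨k, hk⟩ := pel P.2 hu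
    have hu1 : u ≠ 1 := by rintro rfl; simp at hup
    have key : ∀ y ∈ (P : Subgroup G), y ≠ 1 → ∃ z ∈ zpowers y, z ≠ 1 ∧ z ^ p = 1 := by
      intro y hy hy1
      obtain ⟨j, hj⟩ := pel P.2 hy
      obtain ⟨z, hz⟩ := exists_prime_orderOf_dvd_card' (G := zpowers y) p (by
        rw [Nat.card_zpowers, hj]
        refine dvd_pow_self p ?_
        rintro rfl
        exact hy1 (orderOf_eq_one_iff.1 (by simpa using hj)))
      refine ⟨z, z.2, ?_, ?_⟩
      · intro h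
        rw [← orderOf_coe, h, orderOf_one] at hz
        exact hp.out.one_lt.ne hz
      · rw [← hz, ← orderOf_coe, pow_orderOf_eq_one]
    intro y hy
    by_cases hyp : y ^ p = 1
    · exact h1 y hy hyp
    · have hy1 : y ≠ 1 := by rintro rfl; simp at hyp
      obtain ⟨z, hz, hz1, hzp⟩ := key y hy hy1
      obtain ⟨B, hB, hyB⟩ := h.1.2 y
      have hzP : z ∈ (P : Subgroup G) := (zpowers_le.2 hy) hz
      have := h.uniq hZ P hab hA hB hz1 (pel P.2 hzP) (h1 z hzP hzp) ((zpowers_le.2 hyB) hz)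
      exact this ▸ hyB

theorem NMC.cent_eq [Finite G] (hZ : center G = ⊥) {𝓐 : Finset (Subgroup G)} (h : NMC 𝓐) {p : ℕ} [hp : Fact p.Prime]
    (P : Sylow p G) (hab : IsMulCommutative (P : Subgroup G)) (hP1 : (P : Subgroup G) ≠ ⊥)
    {A : Subgroup G} (hA : A ∈ 𝓐) (hPA : (P : Subgroup G) ≤ A) : centralizer ((P : Subgroup G) : Set G) = A := by
  apply le_antisymm
  · intro g hg
    obtain ⟨a, ha, b, hb, rfl, hap, hbp⟩ := GS.exists_p_parts (p := p) g
    have haC := (zpowers_le.2 hg) ha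
    have hbC := (zpowers_le.2 hg) hb
    refine A.mul_mem (hPA ?_) ?_
    · obtain ⟨k, hk⟩ := hap
      have h1 : IsPGroup p (zpowers a) := IsPGroup.of_card (by rw [Nat.card_zpowers, hk])
      have h2 : zpowers a ≤ normalizer ((P : Subgroup G) : Set G) :=
        (zpowers_le.2 haC).trans (centralizer_le_normalizer _)
      have h3 := IsPGroup.to_sup_of_normal_right' h1 P.2 h2
      have h4 := P.3 h3 le_sup_right
      rw [← h4]
      exact le_sup_left (a := zpowers a) (mem_zpowers a)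
    · obtain ⟨⟨x, hx⟩, hx1⟩ := (ne_bot_iff_exists_ne_one).1 hP1
      have hx1' : x ≠ 1 := fun h => hx1 (Subtype.ext h)
      obtain ⟨k, hk⟩ := pel P.2 hx
      have hc : Commute x b := mem_centralizer_iff.1 hbC x hx
      obtain ⟨B, hB, hxb⟩ := h.1.2 (x * b)
      have hcop : (orderOf x).Coprime (orderOf b) := hk ▸ (hbp.pow_right k).symm
      have hxB : x ∈ B := by
        have h5 := B.pow_mem hxb (orderOf b)
        rw [hc.mul_pow, pow_orderOf_eq_one, mul_one] at h5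
        obtain ⟨m, hm⟩ := exists_pow_eq_self_of_coprime hcop.symm
        exact hm ▸ B.pow_mem h5 m
      have := h.uniq hZ P hab hA hB hx1' ⟨k, hk⟩ (hPA hx) hxB
      rw [this]
      exact (B.mul_mem_cancel_left hxB).1 hxb
  · intro g hg
    rw [mem_centralizer_iff]
    intro x hx
    exact (mem_centralizer_singleton_iff.1 (cent P hab (h.2.2 A hA) (hPA hx) (pel P.2 hx) hg)).symm

theorem NMC.conj [Finite G] (hZ : center G = ⊥) {𝓐 : Finset (Subgroup G)} (h : NMC 𝓐) {p : ℕ} [hp : Fact p.Prime]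
    (P : Sylow p G) (hab : IsMulCommutative (P : Subgroup G)) (hP1 : (P : Subgroup G) ≠ ⊥)
    (hP : IsCyclic (P : Subgroup G) ∨ ¬ IsElementaryAbelian p (P : Subgroup G)) (Q : Sylow p G) :
    centralizer ((Q : Subgroup G) : Set G) ∈ 𝓐 ∧ (Q : Subgroup G) ≤ centralizer ((Q : Subgroup G) : Set G) := by
  obtain ⟨e⟩ : Nonempty ((P : Subgroup G) ≃* (Q : Subgroup G)) := ⟨Sylow.equiv P Q⟩
  have hQ : IsMulCommutative (Q : Subgroup G) := ⟨⟨fun a b => Subtype.ext (syl_comm P hab _ Q.2 a.2 b.2)⟩⟩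
  have hQ1 : (Q : Subgroup G) ≠ ⊥ := by
    intro h
    apply hP1
    rw [← card_eq_one] at h ⊢
    rw [Nat.card_congr e.toEquiv, h]
  have hQ2 : IsCyclic (Q : Subgroup G) ∨ ¬ IsElementaryAbelian p (Q : Subgroup G) := by
    rcases hP with hP | hP
    · exact Or.inl (isCyclic_of_surjective e e.surjective)
    · refine Or.inr fun hE => hP ⟨hab, fun a ha => ?_⟩
      have h1 : (e ⟨a, ha⟩) ^ p = 1 := Subtype.ext (hE.2 _ (e ⟨a, ha⟩).2)
      rw [← map_pow, map_eq_one_iff e e.injective] at h1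
      exact congrArg Subtype.val h1
  obtain ⟨A, hA, hQA⟩ := h.inside hZ Q hQ hQ2
  rw [h.cent_eq hZ Q hQ hQ1 hA hQA]
  exact ⟨hA, hQA⟩

theorem NMC.syl_eq [Finite G] (hZ : center G = ⊥) {𝓐 : Finset (Subgroup G)} (h : NMC 𝓐) {p : ℕ} [hp : Fact p.Prime]
    (P : Sylow p G) (hab : IsMulCommutative (P : Subgroup G)) (hP1 : (P : Subgroup G) ≠ ⊥)
    (hP : IsCyclic (P : Subgroup G) ∨ ¬ IsElementaryAbelian p (P : Subgroup G)) (Q : Sylow p G)
    (he : centralizer ((P : Subgroup G) : Set G) = centralizer ((Q : Subgroup G) : Set G)) : P = Q := by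
  have h1 := (h.conj hZ P hab hP1 hP Q).2
  rw [← he] at h1
  have h3 := IsPGroup.to_sup_of_normal_right' Q.2 P.2 (h1.trans (centralizer_le_normalizer _))
  have h4 := P.3 h3 le_sup_right
  have h5 := Q.3 h3 le_sup_left
  exact Sylow.ext (h4.symm.trans h5)

theorem NMC.le_norm [Finite G] (hZ : center G = ⊥) {𝓐 : Finset (Subgroup G)} (h : NMC 𝓐) {p : ℕ} [hp : Fact p.Prime]
    (P : Sylow p G) (hab : IsMulCommutative (P : Subgroup G)) (hP1 : (P : Subgroup G) ≠ ⊥)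
    (hP : IsCyclic (P : Subgroup G) ∨ ¬ IsElementaryAbelian p (P : Subgroup G)) {M : Subgroup G} (hM : M ≠ ⊤)
    (hC : centralizer ((P : Subgroup G) : Set G) ≤ M) : M ≤ normalizer ((P : Subgroup G) : Set G) := by
  intro m hm
  have := h.syl_eq hZ P hab hP1 hP (m • P) (h.eq (h.conj hZ P hab hP1 hP P).1 (h.conj hZ P hab hP1 hP _).1 hM hC ?_)
  · exact Sylow.smul_eq_iff_mem_normalizer.1 this.symm
  · intro g hg
    have : m⁻¹ * g * m ∈ M := by
      apply hC
      rw [mem_centralizer_iff] at hg ⊢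
      intro x hx
      have h1 := hg (m * x * m⁻¹) (by
        rw [Sylow.coe_subgroup_smul]
        exact smul_mem_pointwise_smul x (MulAut.conj m) _ hx)
      calc x * (m⁻¹ * g * m) = m⁻¹ * (m * x * m⁻¹ * g) * m := by group
        _ = _ := by rw [h1]; group
    have h2 := M.mul_mem (M.mul_mem hm this) (M.inv_mem hm)
    simpa [mul_assoc] using h2

theorem NMC.coatom [Finite G] (hZ : center G = ⊥) {𝓐 : Finset (Subgroup G)} (h : NMC 𝓐) {p : ℕ} [hp : Fact p.Prime]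
    (P : Sylow p G) (hab : IsMulCommutative (P : Subgroup G)) (hnn : ¬ (P : Subgroup G).Normal)
    (hP : IsCyclic (P : Subgroup G) ∨ ¬ IsElementaryAbelian p (P : Subgroup G)) :
    IsCoatom (normalizer ((P : Subgroup G) : Set G)) := by
  have hP1 : (P : Subgroup G) ≠ ⊥ := fun h => hnn (h ▸ inferInstance)
  refine ⟨fun ht => hnn (normalizer_eq_top_iff.1 ht), fun M hM => ?_⟩
  by_contra hne
  exact hM.not_ge (h.le_norm hZ P hab hP1 hP hne ((centralizer_le_normalizer _).trans hM.le))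

theorem NMC.comm [Finite G] {𝓐 : Finset (Subgroup G)} (h : NMC 𝓐) {p : ℕ} (hp : p.Prime)
    (hp2 : ¬ p * p ∣ Nat.card G) {x y : G} (hx : orderOf x = p) (hy : orderOf y = p) {M : Subgroup G} (hM : M ≠ ⊤)
    (hCx : ∀ g, g * x = x * g → g ∈ M) (hCy : ∀ g, g * y = y * g → g ∈ M) : y * x = x * y := by
  haveI := Fact.mk hp
  obtain ⟨P⟩ := (inferInstance : Nonempty (Sylow p G))
  have hab : IsMulCommutative (P : Subgroup G) := by
    obtain ⟨k, hk⟩ := IsPGroup.iff_card.1 P.2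
    have h1 := hk ▸ (P : Subgroup G).card_subgroup_dvd_card
    haveI : IsCyclic (P : Subgroup G) := by
      rcases k with _ | _ | k
      · haveI : Subsingleton (P : Subgroup G) := (Nat.card_eq_one_iff_unique.1 (by simpa using hk)).1
        infer_instance
      · exact isCyclic_of_prime_card (p := p) (by simpa using hk)
      · exfalso
        refine hp2 (Dvd.dvd.trans ?_ h1)
        rw [pow_succ, pow_succ, mul_assoc]
        exact Dvd.intro_left _ rfl
    exact IsCyclic.isMulCommutative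
  obtain ⟨A, hA, hxA⟩ := h.1.2 x
  obtain ⟨B, hB, hyB⟩ := h.1.2 y
  have h1 := cent P hab (h.2.2 A hA) hxA ⟨1, by simpa using hx⟩
  have h2 := cent P hab (h.2.2 B hB) hyB ⟨1, by simpa using hy⟩
  have h3 := h.eq hA hB hM (fun g hg => hCx g (mem_centralizer_singleton_iff.1 (h1 hg)))
    (fun g hg => hCy g (mem_centralizer_singleton_iff.1 (h2 hg)))
  exact mem_centralizer_singleton_iff.1 (h1 (h3 ▸ hyB))

end Cfsg.Agent.NilCov
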